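import Groth.Prelude.Def_LieS
import Groth.Agent.InjEpi.Basic
import Mathlib

/-!
# Addition of tangent vectors of a monoid scheme is its multiplication
-/

set_option autoImplicit false
set_option backward.isDefEq.respectTransparency false
universe u

open CategoryTheory AlgebraicGeometry MonoidalCategory CartesianMonoidalCategory MonObj Limits

namespace Groth.Agent.TanAdd

variable {S : Scheme.{u}} (B : Type u) [CommRing B] (f : Spec (CommRingCat.of B) ⟶ S)

variable (M N P : Type u) [AddCommGroup M] [Module B M] [Module Bᵐᵒᵖ M] [IsCentralScalar B M]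
  [AddCommGroup N] [Module B N] [Module Bᵐᵒᵖ N] [IsCentralScalar B N]
  [AddCommGroup P] [Module B P] [Module Bᵐᵒᵖ P] [IsCentralScalar B P]

/-- The square-zero thickening of `Spec B` by `M`. -/
noncomputable def th : Over S :=
  Over.mk (Spec.map (CommRingCat.ofHom (algebraMap B (TrivSqZeroExt B M))) ≫ f)

variable {M N P}

/-- The map of thickenings of a linear map. -/
noncomputable def thMap (ψ : M →ₗ[B] N) : th B f N ⟶ th B f M :=
  Over.homMk (Spec.map (CommRingCat.ofHom (TrivSqZeroExt.map ψ).toRingHom)) (by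
    show Spec.map _ ≫ Spec.map _ ≫ f = Spec.map _ ≫ f
    rw [← Category.assoc, LieS.specMap_comp]
    congr 3
    exact (TrivSqZeroExt.map ψ).comp_algebraMap)

theorem thMap_id : thMap B f (LinearMap.id : M →ₗ[B] M) = 𝟙 _ := by
  apply Over.OverMorphism.ext
  show Spec.map _ = 𝟙 _
  rw [TrivSqZeroExt.map_id]
  exact Spec.map_id _

theorem thMap_comp (ψ : M →ₗ[B] N) (χ : N →ₗ[B] P) :
    thMap B f χ ≫ thMap B f ψ = thMap B f (χ ∘ₗ ψ) := by
  apply Over.OverMorphism.ext
  show Spec.map _ ≫ Spec.map _ = Spec.map _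
  rw [LieS.specMap_comp, TrivSqZeroExt.map_comp_map]
  rfl

/-- Maps out of the thickening by `B × B` are determined on the two axes. -/
theorem th_prod_hom_ext {X : Scheme.{u}} {g h : (th B f (B × B)).left ⟶ X}
    (e1 : (thMap B f (LinearMap.fst B B B)).left ≫ g = (thMap B f (LinearMap.fst B B B)).left ≫ h)
    (e2 : (thMap B f (LinearMap.snd B B B)).left ≫ g = (thMap B f (LinearMap.snd B B B)).left ≫ h) :
    g = h := by
  let a : TrivSqZeroExt B (B × B) →+* TrivSqZeroExt B B × TrivSqZeroExt B B :=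
    (TrivSqZeroExt.map (LinearMap.fst B B B)).toRingHom.prod (TrivSqZeroExt.map (LinearMap.snd B B B)).toRingHom
  have ha : ∀ w, a w = (TrivSqZeroExt.map (LinearMap.fst B B B) w, TrivSqZeroExt.map (LinearMap.snd B B B) w) :=
    fun w ↦ rfl
  refine InjEpi.eq_of_specMap_comp_eq' (CommRingCat.ofHom (R := TrivSqZeroExt B (B × B))
    (S := TrivSqZeroExt B B × TrivSqZeroExt B B) a) ?_ ?_ g h ?_
  · intro w w' hw
    have h1 := congrArg (fun v : TrivSqZeroExt B B × TrivSqZeroExt B B ↦ v.1.fst) hw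
    have h2 := congrArg (fun v : TrivSqZeroExt B B × TrivSqZeroExt B B ↦ v.1.snd) hw
    have h3 := congrArg (fun v : TrivSqZeroExt B B × TrivSqZeroExt B B ↦ v.2.snd) hw
    simp [a] at h1 h2 h3
    exact TrivSqZeroExt.ext h1 (Prod.ext h2 h3)
  · intro p
    let π : TrivSqZeroExt B B × TrivSqZeroExt B B →+* B :=
      ((TrivSqZeroExt.fstHom B B B).toRingHom).comp (RingHom.fst _ _)
    refine ⟨PrimeSpectrum.comap π (PrimeSpectrum.comap (algebraMap B (TrivSqZeroExt B (B × B))) p), ?_⟩
    apply PrimeSpectrum.ext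
    ext w
    show algebraMap B (TrivSqZeroExt B (B × B)) (π (a w)) ∈ p.asIdeal ↔ w ∈ p.asIdeal
    have h1 : π (a w) = w.fst := by simp [π, a]
    rw [h1]
    have hnil : IsNilpotent (w - algebraMap B (TrivSqZeroExt B (B × B)) w.fst) := ⟨2, by
      ext <;> simp [pow_two, TrivSqZeroExt.algebraMap_eq_inl']⟩
    have hmem := nilpotent_iff_mem_prime.mp hnil p.asIdeal p.isPrime
    exact ⟨fun hm ↦ by simpa using p.asIdeal.add_mem hmem hm, fun hm ↦ by simpa using p.asIdeal.sub_mem hm hmem⟩
  · rw [← cancel_epi (coprodSpec (TrivSqZeroExt B B) (TrivSqZeroExt B B))]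
    refine coprod.hom_ext ?_ ?_
    · rw [coprodSpec_inl_assoc, coprodSpec_inl_assoc, ← Category.assoc, ← Category.assoc, LieS.specMap_comp]
      exact e1
    · rw [coprodSpec_inr_assoc, coprodSpec_inr_assoc, ← Category.assoc, ← Category.assoc, LieS.specMap_comp]
      exact e2

theorem scale_eq (c : B) : LieS.scale B f c = thMap B f (c • (LinearMap.id : B →ₗ[B] B)) := by
  apply Over.OverMorphism.ext
  show Spec.map _ = Spec.map _
  congr 2
  refine RingHom.ext fun x ↦ ?_
  ext <;> simp [LieS.scaleHom, LieS.dualHom, TrivSqZeroExt.algebraMap_eq_inl', mul_comm]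

theorem proj_zeroSec : LieS.proj B f ≫ LieS.zeroSec B f = thMap B f (0 : B →ₗ[B] B) := by
  apply Over.OverMorphism.ext
  show Spec.map _ ≫ Spec.map _ = Spec.map _
  rw [LieS.specMap_comp]
  congr 2
  refine RingHom.ext fun x ↦ ?_
  ext <;> simp [TrivSqZeroExt.algebraMap_eq_inl']

theorem scale_zero : LieS.scale B f 0 = LieS.proj B f ≫ LieS.zeroSec B f := by
  rw [scale_eq, proj_zeroSec, zero_smul]

variable {B f} {X : Over S} [MonObj X] (u : LieS.dpt B f ⟶ X)

/-- A tangent vector at the identity times a multiple of it is the sum. -/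
theorem mul_scale (hu : LieS.zeroSec B f ≫ u = 1) (c d : B) :
    (LieS.scale B f c ≫ u) * (LieS.scale B f d ≫ u) = LieS.scale B f (c + d) ≫ u := by
  have hu' : thMap B f (0 : B →ₗ[B] B) ≫ u = 1 := by
    rw [← proj_zeroSec, Category.assoc, hu, MonObj.comp_one]
  let u' : th B f B ⟶ X := u
  let W : th B f (B × B) ⟶ X :=
    (thMap B f (LinearMap.inl B B B ∘ₗ (c • LinearMap.id)) ≫ u') *
      (thMap B f (LinearMap.inr B B B ∘ₗ (d • LinearMap.id)) ≫ u')
  let Z : th B f (B × B) ⟶ X := thMap B f ((c • LinearMap.id).prod (d • LinearMap.id)) ≫ u'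
  have hW : ∀ (ψ : B × B →ₗ[B] B), thMap B f ψ ≫ W =
      (thMap B f (ψ ∘ₗ LinearMap.inl B B B ∘ₗ (c • LinearMap.id)) ≫ u') *
        (thMap B f (ψ ∘ₗ LinearMap.inr B B B ∘ₗ (d • LinearMap.id)) ≫ u') := fun ψ ↦ by
    rw [MonObj.comp_mul, ← Category.assoc, ← Category.assoc, thMap_comp, thMap_comp]
  have key : W = Z := by
    apply Over.OverMorphism.ext
    refine th_prod_hom_ext B f ?_ ?_
    · rw [← Over.comp_left, ← Over.comp_left]
      refine congrArg (fun v : th B f B ⟶ X ↦ v.left) ?_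
      have h0 : LinearMap.fst B B B ∘ₗ LinearMap.inr B B B ∘ₗ (d • LinearMap.id) = (0 : B →ₗ[B] B) := by
        ext; simp
      rw [hW, h0, show thMap B f (0 : B →ₗ[B] B) ≫ u' = 1 from hu', _root_.mul_one, ← Category.assoc, thMap_comp]
      congr 2
    · rw [← Over.comp_left, ← Over.comp_left]
      refine congrArg (fun v : th B f B ⟶ X ↦ v.left) ?_
      have h0 : LinearMap.snd B B B ∘ₗ LinearMap.inl B B B ∘ₗ (c • LinearMap.id) = (0 : B →ₗ[B] B) := by
        ext; simp
      rw [hW, h0, show thMap B f (0 : B →ₗ[B] B) ≫ u' = 1 from hu', _root_.one_mul, ← Category.assoc, thMap_comp]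
      congr 2
  have := congrArg (fun v ↦ thMap B f (LinearMap.fst B B B + LinearMap.snd B B B) ≫ v) key
  simp only [hW, Z] at this
  rw [← Category.assoc, thMap_comp] at this
  rw [scale_eq, scale_eq, scale_eq]
  convert this using 3 <;> first | rfl | (congr 1; ext; simp) | (ext; simp)

end Groth.Agent.TanAdd
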